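import Mathlib
import Groth.Agent.CAlgReg.Basic
import Groth.Agent.S0564
import Groth.Agent.S0565

/-! Normality of regular local rings; descent of regularity along faithfully flat maps. -/

set_option autoImplicit false
set_option linter.style.haveILetI false

namespace Groth.Agent.RegNormal

open IsLocalRing

universe u

/-- If `x` is a prime element of a domain `R` and the ring obtained by inverting `x` is integrally closed
then so is `R`. -/
theorem isIntegrallyClosed_of_away {R : Type u} [CommRing R] [IsDomain R] {x : R} (hx0 : x ≠ 0)
    (hxp : Prime x) (h : IsIntegrallyClosed (Localization.Away x)) : IsIntegrallyClosed R := by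
  classical
  let K := FractionRing R
  have hle : Submonoid.powers x ≤ nonZeroDivisors R :=
    powers_le_nonZeroDivisors_of_noZeroDivisors hx0
  have hxK : IsUnit (algebraMap R K x) := by
    rw [isUnit_iff_ne_zero]; simpa using hx0
  letI : Algebra (Localization.Away x) K :=
    (IsLocalization.Away.lift (S := Localization.Away x) x hxK).toAlgebra
  haveI : IsScalarTower R (Localization.Away x) K := IsScalarTower.of_algebraMap_eq fun r => by
    rw [RingHom.algebraMap_toAlgebra, IsLocalization.Away.lift_eq]
  haveI : IsDomain (Localization.Away x) :=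
    IsLocalization.isDomain_localization hle
  haveI : IsFractionRing (Localization.Away x) K :=
    IsFractionRing.isFractionRing_of_isDomain_of_isLocalization (Submonoid.powers x) _ K
  refine (isIntegrallyClosed_iff K).2 fun {z} hz => ?_
  obtain ⟨w, hw⟩ := (isIntegrallyClosed_iff K).1 h (hz.tower_top (A := Localization.Away x))
  obtain ⟨⟨a, ⟨_, n, rfl⟩⟩, ha⟩ := IsLocalization.surj (Submonoid.powers x) w
  replace ha : z * algebraMap R K (x ^ n) = algebraMap R K a := by
    have := congrArg (algebraMap (Localization.Away x) K) ha
    rwa [map_mul, ← IsScalarTower.algebraMap_apply, ← IsScalarTower.algebraMap_apply, hw] at this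
  clear hw w
  induction n generalizing a with
  | zero => exact ⟨a, by simpa using ha.symm⟩
  | succ n ih =>
    have hdvd : x ∣ a := by
      obtain ⟨p, hpm, hp⟩ := hz
      have h0 : Polynomial.eval₂ (RingHom.id R) a (p.scaleRoots (x ^ (n + 1))) = 0 := by
        apply IsFractionRing.injective R K
        rw [Polynomial.hom_eval₂, RingHom.comp_id, map_zero, ← ha, mul_comm]
        exact Polynomial.scaleRoots_eval₂_eq_zero _ hp
      rw [Polynomial.eval₂_eq_sum_range, Polynomial.natDegree_scaleRoots,
        Finset.sum_range_succ] at h0
      have hlast : (RingHom.id R) ((p.scaleRoots (x ^ (n + 1))).coeff p.natDegree) * a ^ p.natDegree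
          = a ^ p.natDegree := by
        rw [Polynomial.coeff_scaleRoots_natDegree, hpm.leadingCoeff]; simp
      rw [hlast] at h0
      refine hxp.dvd_of_dvd_pow (n := p.natDegree) ?_
      rw [eq_neg_of_add_eq_zero_right h0, dvd_neg]
      refine Finset.dvd_sum fun i hi => ?_
      rw [Finset.mem_range] at hi
      rw [RingHom.id_apply, Polynomial.coeff_scaleRoots]
      refine Dvd.dvd.mul_right (Dvd.dvd.mul_left ?_ _) _
      exact dvd_pow (dvd_pow_self x n.succ_ne_zero) (Nat.sub_ne_zero_of_lt hi)
    obtain ⟨b, rfl⟩ := hdvd
    refine ih b ?_
    have hx : algebraMap R K x ≠ 0 := by simpa using hx0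
    apply mul_left_cancel₀ hx
    rw [← map_mul, ← ha, pow_succ, map_mul, mul_comm, mul_assoc]

theorem isIntegrallyClosed_aux : ∀ (d : ℕ) (R : Type u) [CommRing R] [IsRegularLocalRing R],
    ringKrullDim R ≤ d → IsIntegrallyClosed R := by
  intro d
  induction d using Nat.strong_induction_on with
  | _ d ih =>
    intro R _ _ hd
    haveI := CAlgReg.isDomain (R := R)
    by_cases hm : maximalIdeal R ≤ maximalIdeal R ^ 2
    · have h0 : maximalIdeal R = ⊥ := by
        refine Submodule.eq_bot_of_le_smul_of_le_jacobson_bot (maximalIdeal R) _
          (maximalIdeal R).fg_of_isNoetherianRing ?_ (maximalIdeal_le_jacobson ⊥)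
        rw [smul_eq_mul, ← pow_two]; exact hm
      have hF : IsField R := isField_iff_maximalIdeal_eq.2 h0
      letI := hF.toField
      infer_instance
    obtain ⟨x, hx, hx2⟩ := SetLike.not_le_iff_exists.1 hm
    obtain ⟨e, he⟩ := CAlgReg.exists_dim (R := R)
    obtain ⟨he1, hreg, -⟩ := CAlgReg.quotient_span_singleton hx hx2 he
    haveI := hreg
    haveI := CAlgReg.isDomain (R := R ⧸ Ideal.span {x})
    have hx0 : x ≠ 0 := fun h => hx2 (h ▸ zero_mem _)
    have hxp : Prime x :=
      (Ideal.span_singleton_prime hx0).1 ((Ideal.Quotient.isDomain_iff_prime _).1 inferInstance)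
    have hle : Submonoid.powers x ≤ nonZeroDivisors R :=
      powers_le_nonZeroDivisors_of_noZeroDivisors hx0
    refine isIntegrallyClosed_of_away hx0 hxp ?_
    haveI : IsDomain (Localization.Away x) := IsLocalization.isDomain_localization hle
    refine IsIntegrallyClosed.of_localization_maximal fun P _ hP => ?_
    set q := P.under R with hq
    haveI : q.IsPrime := Ideal.IsPrime.under _ P
    haveI : IsLocalization.AtPrime (Localization.AtPrime P) q :=
      IsLocalization.isLocalization_isLocalization_atPrime_isLocalization (Submonoid.powers x)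
        (Localization.AtPrime P) P
    haveI : IsRegularLocalRing (Localization.AtPrime q) := S0564.result R q
    let e' := (IsLocalization.algEquiv q.primeCompl (Localization.AtPrime q)
      (Localization.AtPrime P)).toRingEquiv
    haveI : IsRegularLocalRing (Localization.AtPrime P) := IsRegularLocalRing.of_ringEquiv e'
    have hlt : q < maximalIdeal R := by
      refine lt_of_le_of_ne (le_maximalIdeal Ideal.IsPrime.ne_top') fun h => ?_
      have hxq : x ∈ q := h ▸ hx
      exact hP.ne_top (Ideal.eq_top_of_isUnit_mem _ hxq
        (IsLocalization.map_units (Localization.Away x) (⟨x, Submonoid.mem_powers x⟩ : Submonoid.powers x)))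
    obtain ⟨f, hf⟩ := CAlgReg.exists_dim (R := Localization.AtPrime P)
    have hfd : f < d := by
      have h1 := Ideal.height_add_one_le_of_lt_of_isPrime hlt
      have h2 : (q.height : WithBot ℕ∞) = f := by
        rw [← hf, IsLocalization.AtPrime.ringKrullDim_eq_height q (Localization.AtPrime P)]
      have h3 : ((maximalIdeal R).height : WithBot ℕ∞) = e := by
        rw [← he, maximalIdeal_height_eq_ringKrullDim]
      have h2' : q.height = f := by exact_mod_cast h2
      have h3' : (maximalIdeal R).height = e := by exact_mod_cast h3
      rw [h2', h3'] at h1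
      rw [he] at hd
      have h4 : f + 1 ≤ e := by exact_mod_cast h1
      have h5 : e ≤ d := by exact_mod_cast hd
      omega
    exact ih f hfd _ hf.le

/-- A regular local ring is integrally closed. -/
theorem isIntegrallyClosed (R : Type u) [CommRing R] [IsRegularLocalRing R] :
    IsIntegrallyClosed R := by
  obtain ⟨d, hd⟩ := CAlgReg.exists_dim (R := R)
  exact isIntegrallyClosed_aux d R hd.le

/-- Noetherianity descends along faithfully flat ring maps. -/
theorem isNoetherianRing_of_faithfullyFlat (R S : Type u) [CommRing R] [CommRing S] [Algebra R S]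
    [Module.FaithfullyFlat R S] [IsNoetherianRing S] : IsNoetherianRing R :=
  Submodule.IsNoetherian.of_isNoetherian_tensorProduct_of_faithfullyFlat (R := R) (M := R) (A := S)
    (isNoetherian_of_linearEquiv (TensorProduct.AlgebraTensorModule.rid R S S).symm)

/-- Regularity descends along faithfully flat ring maps. -/
theorem isRegularRing_of_faithfullyFlat (R S : Type u) [CommRing R] [CommRing S] [Algebra R S]
    [Module.FaithfullyFlat R S] [IsRegularRing S] : IsRegularRing R := by
  haveI := isNoetherianRing_of_faithfullyFlat R S
  refine isRegularRing_iff.2 fun p _ => ?_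
  obtain ⟨q, hq, hqp⟩ := Ideal.exists_isPrime_liesOver_of_faithfullyFlat (B := S) p
  letI := Localization.AtPrime.algebraOfLiesOver p q
  haveI : IsRegularLocalRing (Localization.AtPrime q) :=
    IsRegularRing.isRegularLocalRing_localization q
  haveI : Module.Flat (Localization.AtPrime p) (Localization.AtPrime q) := inferInstance
  exact S0565.result (Localization.AtPrime p) (Localization.AtPrime q)

end Groth.Agent.RegNormal
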