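import Mathlib
import Groth.Agent.CAlgReg.Serre
import Groth.Agent.CAlgReg.AusBuch

/-! `Ext^pd(M, R) ≠ 0` for a finite module of finite projective dimension over a local ring. -/

set_option autoImplicit false
set_option linter.style.haveILetI false

namespace Groth.Agent.RegNormal

open CategoryTheory Abelian IsLocalRing CAlgReg

universe u

variable {R : Type u} [CommRing R] [IsLocalRing R] [IsNoetherianRing R]

theorem nontrivial_ext_self_aux : ∀ (e : ℕ) (M : Type u) [AddCommGroup M] [Module R M]
    [Module.Finite R M] [Nontrivial M], PdLT R M (e + 1) → ¬ PdLT R M e →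
      Nontrivial (Ext (ModuleCat.of R M) (ModuleCat.of R R) e) := by
  classical
  intro e
  induction e with
  | zero =>
    intro M _ _ _ _ h _
    haveI := projective_of_pdLT_one h
    haveI : Module.Free R M := Module.free_of_flat_of_isLocalRing
    let b := Module.Free.chooseBasis R M
    obtain ⟨i⟩ := b.index_nonempty
    refine nontrivial_of_ne (Ext.mk₀ (ModuleCat.ofHom (b.coord i))) 0 fun h0 => ?_
    rw [← Ext.mk₀_zero] at h0
    have := (Ext.mk₀_bijective _ _).1 h0
    have h1 := congrArg (fun φ : ModuleCat.of R M ⟶ ModuleCat.of R R => φ.hom (b i)) this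
    simp at h1
  | succ e ih =>
    intro M _ _ _ _ h h'
    obtain ⟨n, g, hg, hmin⟩ := exists_minimal_cover (R := R) M
    have hex := LinearMap.exact_subtype_ker_map g
    have hK : PdLT R (LinearMap.ker g) (e + 1) :=
      pdLT_left (A := LinearMap.ker g) (LinearMap.ker g).subtype g Subtype.val_injective hex hg h
    let S : ShortComplex (ModuleCat.{u} R) :=
      ModuleCat.shortComplexOfCompEqZero (LinearMap.ker g).subtype g hex.linearMap_comp_eq_zero
    have hS : S.ShortExact :=
      ModuleCat.shortComplex_shortExact S hex Subtype.val_injective hg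
    by_contra hM
    rw [not_nontrivial_iff_subsingleton] at hM
    have hprec : ∀ x : Ext S.X₁ (ModuleCat.of R R) e, ∃ y : Ext S.X₂ (ModuleCat.of R R) e,
        (Ext.mk₀ S.f).comp y (zero_add e) = x := fun x =>
      Ext.contravariant_sequence_exact₁ hS _ x (n₁ := e + 1) (add_comm 1 e)
        (@Subsingleton.elim _ hM _ _)
    rcases e with _ | e
    · haveI := projective_of_pdLT_one hK
      haveI : Module.Free R (LinearMap.ker g) := Module.free_of_flat_of_isLocalRing
      let b := Module.Free.chooseBasis R (LinearMap.ker g)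
      have hne : Nontrivial (LinearMap.ker g) := by
        by_contra hs
        haveI := not_nontrivial_iff_subsingleton.1 hs
        refine h' ?_
        haveI : Module.Free R M := Module.Free.of_equiv (LinearEquiv.ofBijective g ⟨by
          rw [← LinearMap.ker_eq_bot, Submodule.eq_bot_iff]
          exact fun v hv => congrArg Subtype.val (Subsingleton.elim (⟨v, hv⟩ : LinearMap.ker g) 0), hg⟩)
        exact pdLT_one
      obtain ⟨i⟩ := b.index_nonempty
      obtain ⟨y, hy⟩ := hprec (Ext.mk₀ (ModuleCat.ofHom (b.coord i)))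
      obtain ⟨χ, rfl⟩ := (Ext.mk₀_bijective _ _).2 y
      rw [Ext.mk₀_comp_mk₀] at hy
      have h1 := congrArg (fun φ : S.X₁ ⟶ ModuleCat.of R R => φ.hom (b i))
        ((Ext.mk₀_bijective _ _).1 hy)
      have h2 : χ.hom ((b i : LinearMap.ker g) : Fin n → R) = 1 := by
        refine h1.trans ?_
        simp
      have h3 : χ.hom ((b i : LinearMap.ker g) : Fin n → R) ∈ maximalIdeal R := by
        let ψ : (Fin n → R) →ₗ[R] R := χ.hom
        change ψ ((b i : LinearMap.ker g) : Fin n → R) ∈ maximalIdeal R
        rw [pi_eq_sum_univ' ((b i : LinearMap.ker g) : Fin n → R), map_sum]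
        refine Ideal.sum_mem _ fun j _ => ?_
        rw [map_smul, smul_eq_mul]
        exact Ideal.mul_mem_right _ _ (hmin _ (b i).2 j)
      rw [h2] at h3
      exact (maximalIdeal.isMaximal R).ne_top ((Ideal.eq_top_iff_one _).2 h3)
    · have hK' : ¬ PdLT R (LinearMap.ker g) (e + 1) := fun hh =>
        h' (pdLT_right (A := LinearMap.ker g) (LinearMap.ker g).subtype g Subtype.val_injective
          hex hg hh)
      haveI : Nontrivial (LinearMap.ker g) := by
        by_contra hs
        haveI := not_nontrivial_iff_subsingleton.1 hs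
        exact hK' (pdLT_mono (by omega) pdLT_one)
      obtain ⟨x, hx⟩ := @exists_ne _ (ih (LinearMap.ker g) hK hK') 0
      obtain ⟨y, hy⟩ := hprec x
      refine hx ?_
      haveI : HasProjectiveDimensionLT S.X₂ 1 := pdLT_one (M := Fin n → R)
      rw [← hy, y.eq_zero_of_hasProjectiveDimensionLT 1 (by omega)]
      exact Ext.comp_zero ..

/-- Characterisation of the projective dimension by `Ext(M, R)` (finite projective dimension). -/
theorem pd_eq_iff_ext_self [IsRegularLocalRing R] (M : Type u) [AddCommGroup M] [Module R M]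
    [Module.Finite R M] (d : ℕ) :
    projectiveDimension (ModuleCat.of R M) = (d : WithBot ℕ∞) ↔
      ((∀ j : ℕ, d < j → Subsingleton (Ext (ModuleCat.of R M) (ModuleCat.of R R) j)) ∧
        Nontrivial (Ext (ModuleCat.of R M) (ModuleCat.of R R) d)) := by
  classical
  have key : ∀ e : ℕ, projectiveDimension (ModuleCat.of R M) = (e : WithBot ℕ∞) →
      ((∀ j : ℕ, e < j → Subsingleton (Ext (ModuleCat.of R M) (ModuleCat.of R R) j)) ∧
        Nontrivial (Ext (ModuleCat.of R M) (ModuleCat.of R R) e)) := by
    intro e he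
    have h1 : PdLT R M (e + 1) := (projectiveDimension_le_iff _ e).1 he.le
    have h2 : ¬ PdLT R M e := (projectiveDimension_ge_iff _ e).1 he.ge
    refine ⟨fun j hj => subsingleton_of_forall_eq 0 fun x => ?_, ?_⟩
    · haveI := h1
      exact x.eq_zero_of_hasProjectiveDimensionLT (e + 1) hj
    · haveI : Nontrivial M := by
        by_contra hs
        haveI := not_nontrivial_iff_subsingleton.1 hs
        exact h2 (pdLT_mono (Nat.zero_le _) ((hasProjectiveDimensionLT_zero_iff_isZero _).2
          (ModuleCat.isZero_of_subsingleton _)))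
      exact nontrivial_ext_self_aux e M h1 h2
  refine ⟨key d, fun ⟨hj, hd⟩ => ?_⟩
  obtain ⟨n, hn⟩ := exists_dim (R := R)
  have hlt : PdLT R M (n + 1) := pdLT_of_isRegularLocalRing hn M
  have hex : ∃ k, PdLT R M k := ⟨_, hlt⟩
  rcases hk : Nat.find hex with _ | e
  · have h0 := Nat.find_spec hex
    rw [hk] at h0
    haveI := h0
    obtain ⟨x, hx⟩ := @exists_ne _ hd 0
    exact absurd (x.eq_zero_of_hasProjectiveDimensionLT 0 (Nat.zero_le _)) hx
  · have h1 : PdLT R M (e + 1) := hk ▸ Nat.find_spec hex
    have h2 : ¬ PdLT R M e := Nat.find_min hex (by omega)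
    have he : projectiveDimension (ModuleCat.of R M) = (e : WithBot ℕ∞) :=
      le_antisymm ((projectiveDimension_le_iff _ e).2 h1) ((projectiveDimension_ge_iff _ e).2 h2)
    obtain ⟨ha, hb⟩ := key e he
    rcases lt_trichotomy e d with hlt | rfl | hlt
    · exact absurd hd (not_nontrivial_iff_subsingleton.2 (ha d hlt))
    · exact he
    · exact absurd hb (not_nontrivial_iff_subsingleton.2 (hj e hlt))

theorem free_of_ext_self [IsRegularLocalRing R] {n : ℕ} (hn : ringKrullDim R = n) (M : Type u)
    [AddCommGroup M] [Module R M] [Module.Finite R M]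
    (h : ∀ j : ℕ, 1 ≤ j → j ≤ n → Subsingleton (Ext (ModuleCat.of R M) (ModuleCat.of R R) j)) :
    Module.Free R M := by
  classical
  rcases subsingleton_or_nontrivial M with hM | hM
  · exact Module.Free.of_subsingleton R M
  have hlt : PdLT R M (n + 1) := pdLT_of_isRegularLocalRing hn M
  by_cases h1 : PdLT R M 1
  · haveI := projective_of_pdLT_one h1
    exact Module.free_of_flat_of_isLocalRing
  have hex : ∃ k, PdLT R M k := ⟨_, hlt⟩
  have hk : 2 ≤ Nat.find hex := by
    by_contra hk
    exact h1 (pdLT_mono (by omega) (Nat.find_spec hex))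
  obtain ⟨e, he⟩ : ∃ e, Nat.find hex = e + 2 := ⟨Nat.find hex - 2, by omega⟩
  have hen : Nat.find hex ≤ n + 1 := Nat.find_le hlt
  exact absurd (nontrivial_ext_self_aux (e + 1) M (by show PdLT R M (e + 2); exact he ▸ Nat.find_spec hex)
    (Nat.find_min hex (by omega))) (not_nontrivial_iff_subsingleton.2 (h (e + 1) (by omega) (by omega)))

end Groth.Agent.RegNormal
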