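import Mathlib
import Groth.Agent.CAlgReg.Serre
import Groth.Agent.CAlgReg.GlobalDim

/-! Invertible modules with a finite free resolution are free; Picard group of a localization of a
regular local ring. -/

set_option autoImplicit false
set_option linter.style.haveILetI false

namespace Groth.Agent.RegNormal

open scoped TensorProduct
open CAlgReg

universe u

/-- A unimodular vector generates the kernel of a split surjection `R^(m+1) → R^m`. -/
theorem exists_dual_cross {S : Type u} [CommRing S] (m : ℕ)
    (p : (Fin (m + 1) → S) →ₗ[S] (Fin m → S)) (hp : Function.Surjective p) :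
    ∃ c : Fin (m + 1) → S, p c = 0 ∧ Ideal.span (Set.range c) = ⊤ := by
  classical
  let P : Matrix (Fin m) (Fin (m + 1)) S := LinearMap.toMatrix' p
  let Q : (Fin (m + 1) → S) → Matrix (Fin (m + 1)) (Fin (m + 1)) S := fun v => Matrix.of (Fin.cons (α := fun _ => Fin (m + 1) → S) v (fun i => P i))
  have hd : ∀ v, (Q v).det = ∑ j, v j * ((-1) ^ (j : ℕ) * (P.submatrix id j.succAbove).det) := by
    intro v
    rw [Matrix.det_succ_row_zero]
    refine Finset.sum_congr rfl fun j _ => ?_
    have h1 : Q v 0 j = v j := by simp [Q]
    have h2 : (Q v).submatrix Fin.succ j.succAbove = P.submatrix id j.succAbove := by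
      ext a b; simp [Q]
    rw [h1, h2]; ring
  refine ⟨fun j => (-1) ^ (j : ℕ) * (P.submatrix id j.succAbove).det, ?_, ?_⟩
  · funext i
    rw [← LinearMap.toMatrix'_mulVec]
    show ∑ j, P i j * _ = 0
    rw [← hd (P i)]
    exact Matrix.det_zero_of_row_eq (i := 0) (j := i.succ) (Fin.succ_ne_zero i).symm (by funext l; simp [Q])
  · by_contra hne
    obtain ⟨𝔫, h𝔫, hle⟩ := Ideal.exists_le_maximal _ hne
    letI := Ideal.Quotient.field 𝔫
    let π := Ideal.Quotient.mk 𝔫
    let PK : Matrix (Fin m) (Fin (m + 1)) (S ⧸ 𝔫) := P.map π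
    have hsurj : Function.Surjective PK.mulVec := by
      intro y
      choose y' hy' using fun i => Ideal.Quotient.mk_surjective (y i)
      obtain ⟨x, hx⟩ := hp y'
      refine ⟨π ∘ x, funext fun i => ?_⟩
      rw [← hy' i, ← congrFun hx i, ← LinearMap.toMatrix'_mulVec]
      exact (RingHom.map_mulVec π P x i).symm
    have hli : LinearIndependent (S ⧸ 𝔫) PK.row := by
      rw [linearIndependent_iff_card_eq_finrank_span, Set.finrank, Fintype.card_fin,
        ← Matrix.rank_eq_finrank_span_row, Matrix.rank,
        LinearMap.range_eq_top.2 (show Function.Surjective PK.mulVecLin from hsurj), finrank_top,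
        Module.finrank_fin_fun]
    have hne' : Submodule.span (S ⧸ 𝔫) (Set.range PK.row) ≠ ⊤ := by
      intro h
      have h1 := finrank_span_eq_card hli
      rw [h, finrank_top, Module.finrank_fin_fun, Fintype.card_fin] at h1
      omega
    obtain ⟨w, hw⟩ : ∃ w, w ∉ Submodule.span (S ⧸ 𝔫) (Set.range PK.row) := by
      by_contra h
      push Not at h
      exact hne' (eq_top_iff.2 fun x _ => h x)
    choose v hv using fun j => Ideal.Quotient.mk_surjective (w j)
    have hdet : (Q v).det ∈ 𝔫 := by
      rw [hd]
      exact Ideal.sum_mem _ fun j _ => 𝔫.mul_mem_left _ (hle (Ideal.subset_span ⟨j, rfl⟩))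
    have h0 : ((Q v).map π).det = 0 := by
      rw [← RingHom.mapMatrix_apply, ← RingHom.map_det]
      exact Ideal.Quotient.eq_zero_iff_mem.2 hdet
    have hli' : LinearIndependent (S ⧸ 𝔫) ((Q v).map π).row := by
      have heq : ((Q v).map π).row = Fin.cons w PK.row := by
        funext a b
        induction a using Fin.cases with
        | zero => simp [Q, π, hv]
        | succ a => simp [Q, π, PK]
      rw [heq]
      exact hli.finCons hw
    exact ((Matrix.isUnit_iff_isUnit_det _).1 (Matrix.linearIndependent_rows_iff_isUnit.1 hli')).ne_zero h0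

/-- A stably free invertible module is free. -/
theorem free_of_invertible_of_stablyFree {S : Type u} [CommRing S] [Nontrivial S] (M : Type u)
    [AddCommGroup M] [Module S M] [Module.Invertible S M] {a b : ℕ}
    (e : (M × (Fin a → S)) ≃ₗ[S] (Fin b → S)) : Module.Free S M := by
  classical
  obtain ⟨𝔫, h𝔫⟩ := Ideal.exists_maximal S
  letI := Ideal.Quotient.field 𝔫
  have hb : b = a + 1 := by
    let K := S ⧸ 𝔫
    have e1 : (K ⊗[S] M × K ⊗[S] (Fin a → S)) ≃ₗ[K] K ⊗[S] (Fin b → S) :=
      (TensorProduct.prodRight S K K M (Fin a → S)).symm.trans (e.baseChange S K _ _)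
    have h := e1.finrank_eq
    rw [Module.finrank_prod, Module.Invertible.finrank_eq_one, Module.finrank_baseChange,
      Module.finrank_baseChange, Module.finrank_fin_fun, Module.finrank_fin_fun] at h
    omega
  subst hb
  let p : (Fin (a + 1) → S) →ₗ[S] (Fin a → S) := (LinearMap.snd S M (Fin a → S)) ∘ₗ e.symm.toLinearMap
  obtain ⟨c, hc, htop⟩ := exists_dual_cross a p (Prod.snd_surjective.comp e.symm.surjective)
  rw [Ideal.eq_top_iff_one] at htop
  obtain ⟨r, hr⟩ := Ideal.mem_span_range_iff_exists_fun.1 htop
  let φ : M →ₗ[S] S := (Fintype.linearCombination S r) ∘ₗ e.toLinearMap ∘ₗ LinearMap.inl S M (Fin a → S)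
  have hφ : Function.Surjective φ := by
    intro s
    refine ⟨s • (e.symm c).1, ?_⟩
    have h1 : ((e.symm c).1, (0 : Fin a → S)) = e.symm c := Prod.ext rfl hc.symm
    have h2 : φ (e.symm c).1 = 1 := by
      show Fintype.linearCombination S r (e ((e.symm c).1, 0)) = 1
      rw [h1, LinearEquiv.apply_symm_apply, Fintype.linearCombination_apply]
      simpa [mul_comm] using hr
    rw [map_smul, h2, smul_eq_mul, mul_one]
  exact Module.Free.of_equiv (LinearEquiv.ofBijective φ (Module.Invertible.bijective_of_surjective hφ)).symm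

/-- A finite module of finite projective dimension over a local ring becomes stably free over a flat
algebra over which it is projective. -/
theorem stablyFree_baseChange {R : Type u} [CommRing R] [IsLocalRing R] [IsNoetherianRing R]
    (S : Type u) [CommRing S] [Algebra R S] [Module.Flat R S] :
    ∀ (n : ℕ) (N : Type u) [AddCommGroup N] [Module R N] [Module.Finite R N],
      PdLT R N (n + 1) → Module.Projective S (S ⊗[R] N) →
      ∃ a b : ℕ, Nonempty (((S ⊗[R] N) × (Fin a → S)) ≃ₗ[S] (Fin b → S)) := by
  intro n
  induction n with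
  | zero =>
    intro N _ _ _ h _
    haveI := projective_of_pdLT_one h
    haveI : Module.Free R N := Module.free_of_flat_of_isLocalRing
    refine ⟨0, Module.finrank R N, ⟨?_⟩⟩
    exact (LinearEquiv.prodUnique).trans (((Module.finBasis R N).baseChange S).equivFun)
  | succ n ih =>
    intro N _ _ _ h hproj
    obtain ⟨c, g, hg⟩ := Module.Finite.exists_fin' R N
    have hex := LinearMap.exact_subtype_ker_map g
    have hK := pdLT_left (A := LinearMap.ker g) (LinearMap.ker g).subtype g Subtype.val_injective hex hg h
    obtain ⟨h1, h2, h3⟩ := baseChange_shortExact S (A := LinearMap.ker g) (LinearMap.ker g).subtype g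
      Subtype.val_injective hex hg
    obtain ⟨l, hl⟩ := Module.projective_lifting_property (g.baseChange S) LinearMap.id h3
    obtain ⟨e, he1, -⟩ := Function.Exact.splitSurjectiveEquiv h2 h1 ⟨l, hl⟩
    haveI : Module.Projective S (S ⊗[R] (Fin c → R)) := inferInstance
    haveI : Module.Projective S (S ⊗[R] LinearMap.ker g) :=
      Module.Projective.of_split ((LinearMap.ker g).subtype.baseChange S)
        ((LinearMap.fst S _ _) ∘ₗ e.toLinearMap) (by
          ext x
          simp [he1])
    obtain ⟨a, b, ⟨f⟩⟩ := ih (LinearMap.ker g) hK inferInstance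
    refine ⟨b, c + a, ⟨?_⟩⟩
    let d : (S ⊗[R] (Fin c → R)) ≃ₗ[S] (Fin c → S) := ((Pi.basisFun R (Fin c)).baseChange S).equivFun
    exact ((LinearEquiv.refl S _).prodCongr f.symm).trans
      ((LinearEquiv.prodAssoc S _ _ _).symm.trans
        ((((LinearEquiv.prodComm S _ _).trans (e.symm.trans d)).prodCongr (LinearEquiv.refl S _)).trans
          ((LinearEquiv.sumArrowLequivProdArrow (Fin c) (Fin a) S S).symm.trans
            (LinearEquiv.funCongrLeft S S finSumFinEquiv.symm))))

/-- The Picard group of a localization of a regular local ring at one element is trivial. -/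
theorem pic_away_subsingleton {R : Type u} [CommRing R] [IsRegularLocalRing R] (f : R) :
    Subsingleton (CommRing.Pic (Localization.Away f)) := by
  classical
  set S := Localization.Away f
  rw [CommRing.Pic.subsingleton_iff]
  intro M _ _ hM
  rcases subsingleton_or_nontrivial S with hS | hS
  · haveI := Module.subsingleton S M
    exact Module.Free.of_subsingleton S M
  letI : Module R M := Module.compHom M (algebraMap R S)
  haveI : IsScalarTower R S M := IsScalarTower.of_algebraMap_smul fun _ _ => rfl
  obtain ⟨s, hs⟩ := (Module.Finite.fg_top : (⊤ : Submodule S M).FG)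
  let N := Submodule.span R (s : Set M)
  haveI : Module.Finite R N := Module.Finite.iff_fg.2 (Submodule.fg_span s.finite_toSet)
  haveI : IsLocalizedModule (Submonoid.powers f) N.subtype :=
    { map_units := fun x => by
        obtain ⟨u, hu⟩ := IsLocalization.map_units S x
        refine (Module.End.isUnit_iff _).2 ⟨fun y z h => ?_, fun y => ⟨(↑u⁻¹ : S) • y, ?_⟩⟩
        · have h' : (↑u : S) • y = (↑u : S) • z := by
            rw [hu, IsScalarTower.algebraMap_smul, IsScalarTower.algebraMap_smul]; exact h
          exact u.isUnit.smul_left_cancel.1 h'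
        · show (x : R) • ((↑u⁻¹ : S) • y) = y
          rw [← IsScalarTower.algebraMap_smul S (x : R), ← hu, smul_smul, Units.mul_inv, one_smul]
      surj := fun y => by
        have hy : y ∈ Submodule.span S (s : Set M) := hs ▸ Submodule.mem_top
        obtain ⟨t, ht⟩ := multiple_mem_span_of_mem_localization_span (Submonoid.powers f) S (s : Set M) y hy
        exact ⟨⟨⟨_, ht⟩, t⟩, rfl⟩
      exists_of_eq := fun h => ⟨1, by rw [Subtype.ext h]⟩ }
  have hbc := IsLocalizedModule.isBaseChange (Submonoid.powers f) S N.subtype
  haveI : Module.Flat R S := IsLocalization.flat S (Submonoid.powers f)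
  haveI : Module.Invertible S M := hM
  obtain ⟨d, hd⟩ := exists_dim (R := R)
  obtain ⟨a, b, ⟨e⟩⟩ := stablyFree_baseChange S d N (pdLT_of_isRegularLocalRing hd N)
    (Module.Projective.of_equiv hbc.equiv.symm)
  exact free_of_invertible_of_stablyFree M ((hbc.equiv.symm.prodCongr (LinearEquiv.refl S _)).trans e)

end Groth.Agent.RegNormal
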