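import Mathlib
import Groth.Agent.CAlgReg.Basic

/-! Regularity criterion by derivations. -/

set_option autoImplicit false
set_option linter.style.haveILetI false

namespace Groth.Agent.RegNormal

open IsLocalRing

universe u

/-- `D f` is not in a prime containing `f` implies `f` is not in the symbolic square. -/
theorem deriv_not_sq {R : Type u} [CommRing R] (D : Derivation ℤ R R) (p : Ideal R) [p.IsPrime]
    {f : R} (hDf : D f ∉ p) (s : R) (hs : s ∉ p) : s * f ∉ p ^ 2 := by
  intro h
  have hsq : ∀ y ∈ p ^ 2, D y ∈ p := by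
    intro y hy
    rw [pow_two] at hy
    refine Submodule.mul_induction_on hy (fun a ha b hb => ?_) (fun a b ha hb => ?_)
    · rw [Derivation.leibniz]
      exact add_mem (p.mul_mem_right _ ha) (p.mul_mem_right _ hb)
    · rw [map_add]; exact add_mem ha hb
  have hf : f ∈ p := (Ideal.IsPrime.mem_or_mem ‹_› (Ideal.pow_le_self two_ne_zero h)).resolve_left hs
  have h1 := hsq _ h
  rw [Derivation.leibniz, smul_eq_mul, smul_eq_mul] at h1
  exact ((Ideal.IsPrime.mem_or_mem ‹_› ((Ideal.add_mem_iff_left _ (p.mul_mem_right _ hf)).1 h1)).elim hs hDf)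

theorem isRegularRing_quotient {R : Type u} [CommRing R] [IsRegularRing R]
    (f : R) (D : Derivation ℤ R R) (hD : IsUnit (Ideal.Quotient.mk (Ideal.span {f}) (D f))) :
    IsRegularRing (R ⧸ Ideal.span ({f} : Set R)) := by
  set I := Ideal.span ({f} : Set R)
  refine isRegularRing_iff.2 fun q hq => ?_
  set p := q.comap (Ideal.Quotient.mk I) with hp
  haveI : p.IsPrime := Ideal.IsPrime.comap _
  have hfp : f ∈ p := by
    rw [hp, Ideal.mem_comap, Ideal.Quotient.eq_zero_iff_mem.2 (Ideal.mem_span_singleton_self f)]
    exact zero_mem _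
  have hDf : D f ∉ p := fun h => Ideal.IsPrime.ne_top ‹q.IsPrime› (Ideal.eq_top_of_isUnit_mem _ h hD)
  haveI : IsRegularLocalRing (Localization.AtPrime p) := IsRegularRing.isRegularLocalRing_localization p
  set L := Localization.AtPrime p
  have hx : algebraMap R L f ∈ maximalIdeal L :=
    (IsLocalization.AtPrime.to_map_mem_maximal_iff L p f).2 hfp
  have hx2 : algebraMap R L f ∉ maximalIdeal L ^ 2 := by
    intro h
    rw [← Localization.AtPrime.map_eq_maximalIdeal, ← Ideal.map_pow] at h
    obtain ⟨s, hs, hs'⟩ := (IsLocalization.algebraMap_mem_map_algebraMap_iff p.primeCompl L _ _).1 h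
    exact deriv_not_sq D p hDf s hs hs'
  obtain ⟨d, hd⟩ := CAlgReg.exists_dim (R := L)
  obtain ⟨-, hreg, -⟩ := CAlgReg.quotient_span_singleton hx hx2 hd
  haveI := hreg
  have hI : I.map (algebraMap R L) = Ideal.span {algebraMap R L f} := by
    rw [Ideal.map_span, Set.image_singleton]
  haveI : IsRegularLocalRing (L ⧸ I.map (algebraMap R L)) :=
    IsRegularLocalRing.of_ringEquiv (Ideal.quotEquivOfEq hI.symm)
  have hM : Algebra.algebraMapSubmonoid (R ⧸ I) p.primeCompl = q.primeCompl := by
    ext y
    constructor
    · rintro ⟨x, hx, rfl⟩; exact hx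
    · intro hy
      obtain ⟨x, rfl⟩ := Ideal.Quotient.mk_surjective y
      exact ⟨x, hy, rfl⟩
  haveI : IsLocalization q.primeCompl (L ⧸ I.map (algebraMap R L)) :=
    hM ▸ (inferInstance : IsLocalization (Algebra.algebraMapSubmonoid (R ⧸ I) p.primeCompl) _)
  exact IsRegularLocalRing.of_ringEquiv
    (IsLocalization.algEquiv q.primeCompl (L ⧸ I.map (algebraMap R L)) (Localization.AtPrime q)).toRingEquiv

theorem isRegularLocalRing_quotient_det {R : Type u} [CommRing R] [IsRegularLocalRing R] {m : ℕ}
    (f : Fin m → R) (hf : ∀ i, f i ∈ maximalIdeal R) (D : Fin m → Derivation ℤ R R)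
    (hdet : IsUnit (Matrix.det (Matrix.of (fun i j : Fin m => D i (f j))))) :
    IsRegularLocalRing (R ⧸ Ideal.span (Set.range f)) ∧
      RingTheory.Sequence.IsRegular R (List.ofFn f) := by
  classical
  let v : Fin m → maximalIdeal R := fun i => ⟨f i, hf i⟩
  have hli : LinearIndependent (ResidueField R) fun i => (maximalIdeal R).toCotangent (v i) := by
    rw [Fintype.linearIndependent_iff]
    intro g hg
    choose a ha using fun i => residue_surjective (g i)
    have h1 : (maximalIdeal R).toCotangent (∑ i, a i • v i) = 0 := by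
      rw [map_sum, ← hg]
      refine Finset.sum_congr rfl fun i _ => ?_
      rw [map_smul, ← ha i, ← IsScalarTower.algebraMap_smul (ResidueField R) (a i)]
      rfl
    rw [Ideal.toCotangent_eq_zero] at h1
    have hsq : ∀ (k : Fin m), ∀ y ∈ maximalIdeal R ^ 2, D k y ∈ maximalIdeal R := by
      intro k y hy
      rw [pow_two] at hy
      refine Submodule.mul_induction_on hy (fun a ha b hb => ?_) (fun a b ha hb => ?_)
      · rw [Derivation.leibniz]
        exact add_mem ((maximalIdeal R).mul_mem_right _ ha) ((maximalIdeal R).mul_mem_right _ hb)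
      · rw [map_add]; exact add_mem ha hb
    have h2 : ∀ k, residue R (∑ i, D k (f i) * a i) = 0 := by
      intro k
      have := hsq k _ h1
      rw [Submodule.coe_sum, map_sum] at this
      rw [residue_eq_zero_iff]
      have h3 : ∑ i, D k ((a i • v i : maximalIdeal R) : R) =
          ∑ i, (D k (f i) * a i + f i * D k (a i)) := by
        refine Finset.sum_congr rfl fun i _ => ?_
        show D k (a i * f i) = _
        rw [Derivation.leibniz, smul_eq_mul, smul_eq_mul]; ring
      rw [h3, Finset.sum_add_distrib] at this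
      exact (Ideal.add_mem_iff_left _ (Ideal.sum_mem _ fun i _ =>
        (maximalIdeal R).mul_mem_right _ (hf i))).1 this
    set A := (Matrix.of (fun i j : Fin m => D i (f j))).map (residue R)
    have hA : IsUnit A.det := by
      show IsUnit ((residue R).mapMatrix (Matrix.of (fun i j : Fin m => D i (f j)))).det
      rw [← RingHom.map_det]; exact hdet.map _
    have hAg : A.mulVec g = 0 := by
      funext k
      rw [Matrix.mulVec, dotProduct, Pi.zero_apply, ← h2 k, map_sum]
      refine Finset.sum_congr rfl fun i _ => ?_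
      rw [map_mul, ha]; rfl
    intro i
    have := congrArg (A⁻¹).mulVec hAg
    rw [Matrix.mulVec_mulVec, Matrix.nonsing_inv_mul _ hA, Matrix.one_mulVec, Matrix.mulVec_zero] at this
    rw [this]; rfl
  have hinj : Function.Injective v := Function.Injective.of_comp hli.injective
  obtain ⟨t, ht, hc⟩ := CAlgReg.exists_extend (R := R) (Finset.univ.image v) (by
    rw [Finset.coe_image, Finset.coe_univ, Set.image_univ]
    exact (linearIndepOn_range_iff hinj _).2 hli)
  obtain ⟨d, hd⟩ := CAlgReg.exists_dim (R := R)
  rw [Finset.card_image_of_injective _ hinj, Finset.card_univ, Fintype.card_fin,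
    CAlgReg.spanFinrank_eq_of_dim hd] at hc
  have hfs : ((↑) '' ((Finset.univ.image v : Finset (maximalIdeal R)) : Set (maximalIdeal R)) : Set R)
      = ((Finset.univ.image f : Finset R) : Set R) := by
    simp [Finset.coe_image, ← Set.range_comp, Function.comp_def, v]
  rw [hfs] at ht
  have hfc : (Finset.univ.image f).card = m := by
    rw [Finset.card_image_of_injective _ (fun a b h => hinj (Subtype.ext h)), Finset.card_univ,
      Fintype.card_fin]
  obtain ⟨h1, -, h3⟩ := CAlgReg.quotient_span hd (Finset.univ.image f) t ht (by rw [hfc]; exact hc)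
  rw [Finset.coe_image, Finset.coe_univ, Set.image_univ] at h1
  refine ⟨h1, ?_⟩
  have hgen : Ideal.ofList (List.ofFn f ++ t.toList) = maximalIdeal R := by
    rw [← ht, Ideal.ofList]
    congr 1
    ext y
    simp [List.mem_ofFn]
  have hreg := CAlgReg.isRegular_generators hd _ (by
    rw [List.length_append, List.length_ofFn, Finset.length_toList]; omega) hgen
  refine ⟨((RingTheory.Sequence.isWeaklyRegular_append_iff R _ _).1 hreg.toIsWeaklyRegular).1, ?_⟩
  rw [smul_eq_mul, Ideal.mul_top]
  refine fun h => (maximalIdeal.isMaximal R).ne_top (top_unique (h ▸ ?_))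
  rw [Ideal.ofList, Ideal.span_le]
  rintro y hy
  replace hy : y ∈ List.ofFn f := hy
  rw [List.mem_ofFn] at hy
  obtain ⟨i, rfl⟩ := hy
  exact hf i

end Groth.Agent.RegNormal
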